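import Cfsg.Agent.Lib.Helper78.DefectCard

/-!
# StVal farm (helper36, S2312), piece A
-/

set_option autoImplicit false

namespace Cfsg.Agent.Lib.Helper75.StVal

open Cfsg

/-- A rational algebraic integer `a / b` forces `b ∣ a`. -/
theorem int_dvd_of_isIntegral_inv_mul {a : ℤ} {b : ℕ} (hb : b ≠ 0)
    (h : IsIntegral ℤ ((b : ℂ)⁻¹ * (a : ℂ))) : (b : ℤ) ∣ a := by
  have h1 : IsIntegral ℤ ((b : ℚ)⁻¹ * (a : ℚ)) := by
    have : ((b : ℂ)⁻¹ * (a : ℂ)) = algebraMap ℚ ℂ ((b : ℚ)⁻¹ * (a : ℚ)) := by simp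
    rw [this] at h
    exact (isIntegral_algebraMap_iff (algebraMap ℚ ℂ).injective).mp h
  obtain ⟨y, hy⟩ := IsIntegrallyClosed.isIntegral_iff.mp h1
  have hb' : (b : ℚ) ≠ 0 := by exact_mod_cast hb
  have h2 : (y : ℚ) * b = a := by
    have : (algebraMap ℤ ℚ y) = (y : ℚ) := rfl
    rw [this] at hy
    rw [hy]; field_simp
  have h3 : y * (b : ℤ) = a := by exact_mod_cast h2
  exact ⟨y, by rw [← h3]; ring⟩

/-- A -/
theorem card_dvd_of_vanish {G : Type*} [Group G] [Fintype G] {p : ℕ} (hp : p.Prime) {χ : G → ℂ}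
    (hχ : IsCharacter G χ) (hvan : ∀ x : G, p ∣ orderOf x → χ x = 0) (g : G) (hg : ¬ p ∣ orderOf g)
    (m : ℤ) (hm : χ g = (m : ℂ)) :
    ((p ^ (Nat.card ↥(Subgroup.centralizer ({g} : Set G))).factorization p : ℕ) : ℤ) ∣ m := by
  classical
  have : Fact p.Prime := ⟨hp⟩
  obtain ⟨Q0⟩ : Nonempty (Sylow p ↥(Subgroup.centralizer ({g} : Set G))) := inferInstance
  set D : Subgroup G := (Q0 : Subgroup _).map (Subgroup.centralizer ({g} : Set G)).subtype with hD
  have hcardD : Nat.card D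
      = p ^ (Nat.card ↥(Subgroup.centralizer ({g} : Set G))).factorization p := by
    rw [hD, Subgroup.card_map_of_injective (Subgroup.subtype_injective _)]
    exact Q0.card_eq_multiplicity
  have hcomm : ∀ u ∈ D, u * g = g * u := by
    rintro _ ⟨u, -, rfl⟩
    exact Subgroup.mem_centralizer_singleton_iff.1 u.2
  have hpow : ∀ u ∈ D, ∃ k, orderOf u = p ^ k := by
    rintro _ ⟨u, hu, rfl⟩
    obtain ⟨k, hk⟩ := Q0.isPGroup' ⟨u, hu⟩
    have h1 : ((Subgroup.centralizer ({g} : Set G)).subtype u) ^ p ^ k = 1 := by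
      have h2 : u ^ p ^ k = 1 := by
        have := congrArg Subtype.val hk
        simpa using this
      rw [← map_pow, h2, map_one]
    obtain ⟨j, -, hj⟩ := (Nat.dvd_prime_pow hp).1 (orderOf_dvd_of_pow_eq_one h1)
    exact ⟨j, hj⟩
  have hint := Cfsg.Agent.Lib.Helper78.isIntegral_avg_char hχ D g hcomm
  have hsum : (∑ u : G, if u ∈ D then χ (g * u) else 0) = (m : ℂ) := by
    rw [Finset.sum_eq_single 1]
    · rw [if_pos D.one_mem, mul_one, hm]
    · intro u _ hu1
      split_ifs with huD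
      · exact hvan _ (Cfsg.Agent.Lib.Helper78.dvd_orderOf_mul_of_regular hp hg (hpow u huD) hu1
          (hcomm u huD))
      · rfl
    · intro h
      exact absurd (Finset.mem_univ _) h
  rw [hsum, hcardD] at hint
  exact int_dvd_of_isIntegral_inv_mul (pow_pos hp.pos _).ne' hint

end Cfsg.Agent.Lib.Helper75.StVal
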