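import Mathlib
import Cfsg.Prelude.Def_Characters

/-!
# StVal farm (helper36, S2312), piece C
-/

set_option autoImplicit false

namespace Cfsg.Agent.Lib.Helper75.StVal

open Cfsg

/-- C -/
theorem sum_coset {M : Type*} [Group M] [Finite M] {p : ℕ} (R : Subgroup M) [R.Normal] [Fintype R]
    (f : M → ℂ) (hf : IsClassFunction M f) (hvan : ∀ x : M, p ∣ orderOf x → f x = 0) (s : M)
    (hB : ∀ r ∈ R, ¬ p ∣ orderOf (r * s) → ∃ w ∈ R, r * s = w * s * w⁻¹) :
    (Nat.card ↥(R ⊓ Subgroup.centralizer ({s} : Set M)) : ℂ) * ∑ r : R, f ((r : M) * s) =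
      (Nat.card R : ℂ) * f s := by
  classical
  let act : MulAction R M := MulAction.compHom M ((MulAut.conj : M →* MulAut M).comp R.subtype)
  have smul_eq : ∀ (w : R) (x : M), w • x = (w : M) * x * (w : M)⁻¹ := fun w x => rfl
  have hcard : Nat.card (MulAction.orbit R s) * Nat.card (MulAction.stabilizer R s)
      = Nat.card R := by
    rw [Nat.card_congr (MulAction.orbitEquivQuotientStabilizer R s)]
    exact (Subgroup.card_eq_card_quotient_mul_card_subgroup _).symm
  have hstab : Nat.card (MulAction.stabilizer R s)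
      = Nat.card ↥(R ⊓ Subgroup.centralizer ({s} : Set M)) := by
    apply Nat.card_congr
    refine
      { toFun := fun w => ⟨w.1.1, Subgroup.mem_inf.2 ⟨w.1.2, ?_⟩⟩
        invFun := fun c => ⟨⟨c.1, (Subgroup.mem_inf.1 c.2).1⟩, ?_⟩
        left_inv := fun w => rfl
        right_inv := fun c => rfl }
    · rw [Subgroup.mem_centralizer_singleton_iff]
      have h := w.2
      rw [MulAction.mem_stabilizer_iff, smul_eq] at h
      exact mul_inv_eq_iff_eq_mul.1 h
    · rw [MulAction.mem_stabilizer_iff, smul_eq]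
      have h := (Subgroup.mem_inf.1 c.2).2
      rw [Subgroup.mem_centralizer_singleton_iff] at h
      exact mul_inv_eq_iff_eq_mul.2 h
  have : Fintype (MulAction.orbit R s) := Fintype.ofFinite _
  have hmem : ∀ x : MulAction.orbit R s, (x : M) * s⁻¹ ∈ R := by
    rintro ⟨_, w, rfl⟩
    change (w : M) * s * (w : M)⁻¹ * s⁻¹ ∈ R
    have h1 : s * (w : M)⁻¹ * s⁻¹ ∈ R := ‹R.Normal›.conj_mem _ (R.inv_mem w.2) s
    have h2 := R.mul_mem w.2 h1
    simpa only [mul_assoc] using h2
  have hsum : ∑ r : R, f ((r : M) * s) = (Nat.card (MulAction.orbit R s) : ℂ) * f s := by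
    rw [← Fintype.sum_of_injective
      (fun x : MulAction.orbit R s => (⟨(x : M) * s⁻¹, hmem x⟩ : R)) ?_ (fun _ => f s)
      (fun r => f ((r : M) * s)) ?_ ?_]
    · simp [Nat.card_eq_fintype_card]
    · intro x y hxy
      have h1 : (x : M) * s⁻¹ = (y : M) * s⁻¹ := congrArg Subtype.val hxy
      exact Subtype.ext (mul_right_cancel h1)
    · intro r hr
      apply hvan
      by_contra hnd
      obtain ⟨w, hw, hws⟩ := hB r r.2 hnd
      apply hr
      refine ⟨⟨(r : M) * s, ⟨⟨w, hw⟩, ?_⟩⟩, ?_⟩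
      · change w * s * w⁻¹ = (r : M) * s
        exact hws.symm
      · apply Subtype.ext
        simp
    · rintro ⟨_, w, rfl⟩
      change f s = f ((w : M) * s * (w : M)⁻¹ * s⁻¹ * s)
      rw [inv_mul_cancel_right, hf]
  rw [hsum, ← hcard, ← hstab]
  push_cast
  ring

end Cfsg.Agent.Lib.Helper75.StVal
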