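import Cfsg.Agent.Lib.Helper36.BNSt.K7

/-!
# StVal farm (helper36, S2312), pieces D and E
-/

set_option autoImplicit false

namespace Cfsg.Agent.Lib.Helper75.StVal

open Cfsg Cfsg.Agent.Lib.Helper6.BN Cfsg.Agent.Lib.Helper36.BNSt

/-- D -/
theorem stChar_mul_of_core {X : Type*} [Group X] [Finite X] (P : Cfsg.BNPair X) {r : X}
    (h : ∀ z : X, z⁻¹ * r * z ∈ P.B) (x : X) : stChar P (r * x) = stChar P x := by
  unfold stChar
  refine Finset.sum_congr rfl (fun J _ => ?_)
  congr 1
  unfold fixedPointCharacter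
  have htriv : ∀ c : X ⧸ P.parabolic (J : Set X), r • c = c := by
    intro c
    induction c using QuotientGroup.induction_on with
    | H z =>
      change (QuotientGroup.mk (r * z) : X ⧸ P.parabolic (J : Set X)) = QuotientGroup.mk z
      rw [eq_comm, QuotientGroup.eq]
      have := B_le_parabolic (P := P) (J : Set X) (h z)
      simpa [mul_assoc] using this
  have : MulAction.fixedBy (X ⧸ P.parabolic (J : Set X)) (r * x)
      = MulAction.fixedBy (X ⧸ P.parabolic (J : Set X)) x := by
    ext c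
    simp only [MulAction.mem_fixedBy]
    rw [mul_smul, htriv]
  rw [this]

/-- E -/
theorem exists_min_parabolic {G : Type*} [Group G] [Finite G] (P : Cfsg.BNPair G) (g : G) :
    ∃ (K : Finset G) (hK : (K : Set G) ⊆ P.S) (y : G) (hy : y * g * y⁻¹ ∈ P.parabolic (K : Set G)),
      stChar (parBN P (K : Set G) hK) ⟨y * g * y⁻¹, hy⟩ = (-1 : ℂ) ^ K.card := by
  classical
  -- the predicate on cardinalities
  let good : Finset G → Prop := fun K => (K : Set G) ⊆ P.S ∧ ∃ y : G, y * g * y⁻¹ ∈ P.parabolic (K : Set G)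
  have hex : ∃ n : ℕ, ∃ K : Finset G, good K ∧ K.card = n := by
    refine ⟨_, (Set.toFinite P.S).toFinset, ⟨?_, 1, ?_⟩, rfl⟩
    · rw [Set.Finite.coe_toFinset]
    · rw [Set.Finite.coe_toFinset, parabolic_S]
      exact Subgroup.mem_top _
  obtain ⟨K, ⟨hK, y, hy⟩, hcard⟩ := Nat.find_spec hex
  have hmin : ∀ J : Finset G, good J → K.card ≤ J.card := by
    intro J hJ
    rw [hcard]
    exact Nat.find_min' hex ⟨J, hJ, rfl⟩
  refine ⟨K, hK, y, hy, ?_⟩
  rw [stChar_parBN, Finset.sum_eq_single K]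
  · rw [Subgroup.subgroupOf_self, fixedPointCharacter_of_forall _ (fun z => Subgroup.mem_top _),
      Subgroup.index_top]
    simp
  · intro J hJ hJK
    rw [Finset.mem_powerset] at hJ
    rw [fixedPointCharacter_of_forall_not, mul_zero]
    intro z hz
    rw [Subgroup.mem_subgroupOf] at hz
    have hlt : J.card < K.card := Finset.card_lt_card (Finset.ssubset_iff_subset_ne.2 ⟨hJ, hJK⟩)
    have hgood : good J := by
      refine ⟨fun a ha => hK (hJ ha), (z : G)⁻¹ * y, ?_⟩
      have e : ((z : G)⁻¹ * y) * g * ((z : G)⁻¹ * y)⁻¹ = (z : G)⁻¹ * (y * g * y⁻¹) * (z : G) := by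
        group
      rw [e]
      exact hz
    exact absurd (hmin J hgood) (not_le.2 hlt)
  · intro h
    exact absurd (Finset.mem_powerset_self K) h

end Cfsg.Agent.Lib.Helper75.StVal
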